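import Mathlib

/-!
Linear groups of order prime to the characteristic which are transitive on the nonzero vectors:
stabilisers, semiregular elements and subgroups, commutants.
-/

set_option autoImplicit false

namespace Cfsg.Agent.H45.Trans

open Module

variable {p : ℕ} [Fact p.Prime] {V : Type*} [AddCommGroup V] [Module (ZMod p) V]
  {G : Type*} [Group G]

/-- The stabiliser of a vector. -/
def stab (ρ : G →* (V ≃ₗ[ZMod p] V)) (v : V) : Subgroup G where
  carrier := {g | ρ g v = v}
  one_mem' := by simp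
  mul_mem' := fun {a b} ha hb => by
    show ρ (a * b) v = v
    rw [map_mul, LinearEquiv.mul_apply, hb, ha]
  inv_mem' := fun {a} ha => by
    show ρ a⁻¹ v = v
    calc ρ a⁻¹ v = ρ a⁻¹ (ρ a v) := by rw [ha]
      _ = v := by rw [← LinearEquiv.mul_apply, ← map_mul, inv_mul_cancel, map_one]; rfl

@[simp] theorem mem_stab {ρ : G →* (V ≃ₗ[ZMod p] V)} {v : V} {g : G} :
    g ∈ stab ρ v ↔ ρ g v = v := Iff.rfl

/-- The fixed vectors of an element. -/
def fixV (ρ : G →* (V ≃ₗ[ZMod p] V)) (g : G) : Submodule (ZMod p) V :=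
  LinearMap.eqLocus (ρ g).toLinearMap LinearMap.id

theorem mem_fixV {ρ : G →* (V ≃ₗ[ZMod p] V)} {g : G} {v : V} :
    v ∈ fixV ρ g ↔ ρ g v = v := Iff.rfl

/-- An element fixing only the zero vector. -/
def Semireg (ρ : G →* (V ≃ₗ[ZMod p] V)) (g : G) : Prop :=
  ∀ v : V, ρ g v = v → v = 0

/-- A faithful group of order prime to `p`, transitive on the nonzero vectors. -/
structure Hyp (ρ : G →* (V ≃ₗ[ZMod p] V)) : Prop where
  inj : Function.Injective ρ
  cop : ¬ p ∣ Nat.card G
  trans : ∀ v w : V, v ≠ 0 → w ≠ 0 → ∃ g : G, ρ g v = w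

theorem apply_inv_apply (ρ : G →* (V ≃ₗ[ZMod p] V)) (g : G) (v : V) : ρ g (ρ g⁻¹ v) = v := by
  rw [← LinearEquiv.mul_apply, ← map_mul, mul_inv_cancel, map_one]; rfl

theorem card_V [Finite V] : Nat.card V = p ^ finrank (ZMod p) V := by
  rw [Module.natCard_eq_pow_finrank (K := ZMod p), Nat.card_zmod]

/-- The orbit-stabiliser equation. -/
theorem Hyp.card_eq [Finite G] [Finite V] {ρ : G →* (V ≃ₗ[ZMod p] V)} (H : Hyp ρ) {v : V}
    (hv : v ≠ 0) : Nat.card G = Nat.card (stab ρ v) * (Nat.card V - 1) := by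
  classical
  let : MulAction G V := MulAction.compHom V ρ
  have hs : MulAction.stabilizer G v = stab ρ v := by
    ext g
    rfl
  have ho : (MulAction.orbit G v : Set V) = {w | w ≠ 0} := by
    ext w
    constructor
    · rintro ⟨g, rfl⟩ h0
      exact hv ((ρ g).map_eq_zero_iff.1 h0)
    · intro hw
      obtain ⟨g, hg⟩ := H.trans v w hv hw
      exact ⟨g, hg⟩
  have h := Nat.card_congr (MulAction.orbitEquivQuotientStabilizer G v)
  rw [← Subgroup.index_eq_card, hs] at h
  have hc : Nat.card (MulAction.orbit G v) = Nat.card V - 1 := by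
    have := Fintype.ofFinite V
    have h1 : Nat.card {w : V // w ≠ 0} = Nat.card V - 1 := by
      rw [Nat.card_eq_fintype_card, Nat.card_eq_fintype_card, Fintype.card_subtype_compl,
        Fintype.card_subtype_eq]
    rw [← h1]
    exact Nat.card_congr (Equiv.setCongr ho)
  rw [← hc, h, Subgroup.card_mul_index]

theorem Hyp.dvd_card [Finite G] [Finite V] [Nontrivial V] {ρ : G →* (V ≃ₗ[ZMod p] V)}
    (H : Hyp ρ) : p ^ finrank (ZMod p) V - 1 ∣ Nat.card G := by
  obtain ⟨v, hv⟩ := exists_ne (0 : V)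
  rw [H.card_eq hv, card_V (p := p) (V := V)]
  exact Dvd.intro_left _ rfl

/-- A commuting element stabilises the fixed vectors. -/
theorem map_fixV_mem {ρ : G →* (V ≃ₗ[ZMod p] V)} {g h : G} (hc : g * h = h * g) {v : V}
    (hv : v ∈ fixV ρ g) : ρ h v ∈ fixV ρ g := by
  rw [mem_fixV] at hv ⊢
  rw [← LinearEquiv.mul_apply, ← map_mul, hc, map_mul, LinearEquiv.mul_apply, hv]

/-- The fixed points of an element of prime order `r` are counted modulo `r`. -/
theorem card_modEq_fixV [Finite G] [Finite V] (ρ : G →* (V ≃ₗ[ZMod p] V)) {r : ℕ} [Fact r.Prime]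
    {g : G} (hg : orderOf g = r) (W : Submodule (ZMod p) V) (hW : ∀ w ∈ W, ρ g w ∈ W) :
    Nat.card W ≡ Nat.card (W ⊓ fixV ρ g : Submodule (ZMod p) V) [MOD r] := by
  have hW' : ∀ h ∈ Subgroup.zpowers g, ∀ w ∈ W, ρ h w ∈ W := by
    intro h hh
    obtain ⟨k, rfl⟩ := mem_powers_iff_mem_zpowers.2 hh
    simp only
    induction k with
    | zero => simp
    | succ k ih =>
      intro w hw
      rw [pow_succ, map_mul, LinearEquiv.mul_apply]
      exact ih (Subgroup.pow_mem _ (Subgroup.mem_zpowers g) k) _ (hW w hw)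
  let : MulAction (Subgroup.zpowers g) W :=
    { smul := fun h w => ⟨ρ h.1 w.1, hW' h.1 h.2 w.1 w.2⟩
      one_smul := fun w => Subtype.ext (by show ρ 1 w.1 = w.1; simp)
      mul_smul := fun a b w => Subtype.ext (by
        show ρ (a.1 * b.1) w.1 = ρ a.1 (ρ b.1 w.1)
        rw [map_mul, LinearEquiv.mul_apply]) }
  have hpg : IsPGroup r (Subgroup.zpowers g) :=
    IsPGroup.of_card (n := 1) (by rw [Nat.card_zpowers, hg, pow_one])
  refine (hpg.card_modEq_card_fixedPoints W).trans ?_
  refine congrArg (fun t => t % r) ?_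
  refine Nat.card_congr
    { toFun := fun w => ⟨w.1.1, w.1.2,
        congrArg Subtype.val (w.2 ⟨g, Subgroup.mem_zpowers g⟩)⟩
      invFun := fun w => ⟨⟨w.1, w.2.1⟩, fun h => Subtype.ext (by
        show ρ h.1 w.1 = w.1
        have hle : Subgroup.zpowers g ≤ stab ρ w.1 := (Subgroup.zpowers_le).2 w.2.2
        exact hle h.2)⟩
      left_inv := fun w => rfl
      right_inv := fun w => rfl }

/-- The fixed points of an element of prime order: the congruence in dimensions. -/
theorem pow_modEq_fixV [Finite G] [Finite V] (ρ : G →* (V ≃ₗ[ZMod p] V)) {r : ℕ} [Fact r.Prime]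
    {g : G} (hg : orderOf g = r) :
    p ^ finrank (ZMod p) V ≡ p ^ finrank (ZMod p) (fixV ρ g) [MOD r] := by
  have h := card_modEq_fixV ρ hg ⊤ (fun w _ => Submodule.mem_top)
  rw [Nat.card_congr (Equiv.subtypeUnivEquiv (p := (· ∈ (⊤ : Submodule (ZMod p) V)))
    (fun _ => Submodule.mem_top)), top_inf_eq, card_V (p := p) (V := V),
    card_V (p := p) (V := fixV ρ g)] at h
  exact h

/-- A nontrivial normal abelian subgroup of a transitive linear group is semiregular. -/
theorem Hyp.semireg_of_normal_abelian [Finite V] {ρ : G →* (V ≃ₗ[ZMod p] V)} (H : Hyp ρ)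
    {A : Subgroup G} (hA : A.Normal) (hab : ∀ a ∈ A, ∀ b ∈ A, a * b = b * a) {a : G} (ha : a ∈ A)
    (ha1 : a ≠ 1) : Semireg ρ a := by
  classical
  intro v hv
  by_contra hv0
  -- a minimal nonzero subspace invariant under `A` and inside the fixed space of `a`
  let P : ℕ → Prop := fun k => ∃ W : Submodule (ZMod p) V, W ≠ ⊥ ∧ finrank (ZMod p) W = k ∧
    W ≤ fixV ρ a ∧ ∀ b ∈ A, ∀ w ∈ W, ρ b w ∈ W
  have hP : ∃ k, P k := ⟨_, fixV ρ a, fun h => hv0 (by
      have := mem_fixV.2 hv
      rwa [h, Submodule.mem_bot] at this), rfl, le_rfl,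
    fun b hb w hw => map_fixV_mem (hab a ha b hb) hw⟩
  obtain ⟨W, hW0, hWk, hWle, hWA⟩ := Nat.find_spec hP
  have hmin : ∀ U : Submodule (ZMod p) V, U ≤ W → (∀ b ∈ A, ∀ u ∈ U, ρ b u ∈ U) → U = ⊥ ∨ U = W := by
    intro U hUW hUA
    by_contra hh
    push Not at hh
    have hlt : finrank (ZMod p) U < finrank (ZMod p) W :=
      Submodule.finrank_lt_finrank_of_lt (lt_of_le_of_ne hUW hh.2)
    rw [hWk] at hlt
    exact Nat.find_min hP hlt ⟨U, hh.1, rfl, hUW.trans hWle, hUA⟩
  -- every translate of `W` has the same property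
  have htr : ∀ (g : G) (U : Submodule (ZMod p) V), U ≤ W.map (ρ g).toLinearMap →
      (∀ b ∈ A, ∀ u ∈ U, ρ b u ∈ U) → U = ⊥ ∨ U = W.map (ρ g).toLinearMap := by
    intro g U hU hUA
    have h := hmin (U.comap (ρ g).toLinearMap) ?_ ?_
    · rcases h with h | h
      · left
        rw [← Submodule.map_comap_eq_of_surjective (ρ g).surjective U, h, Submodule.map_bot]
      · right
        rw [← h, Submodule.map_comap_eq_of_surjective (ρ g).surjective U]
    · intro x hx
      obtain ⟨y, hy, hxy⟩ := hU hx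
      rwa [← (ρ g).injective hxy]
    · intro b hb u hu
      rw [Submodule.mem_comap] at hu ⊢
      have hb' : g * b * g⁻¹ ∈ A := hA.conj_mem b hb g
      have : ρ g (ρ b u) = ρ (g * b * g⁻¹) (ρ g u) := by
        simp only [← LinearEquiv.mul_apply, ← map_mul]
        group
      show ρ g (ρ b u) ∈ U
      rw [this]
      exact hUA _ hb' _ hu
  have htA : ∀ (g : G), ∀ b ∈ A, ∀ u ∈ W.map (ρ g).toLinearMap, ρ b u ∈ W.map (ρ g).toLinearMap := by
    intro g b hb u hu
    obtain ⟨w, hw, rfl⟩ := hu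
    refine ⟨ρ (g⁻¹ * b * g) w, hWA _ (by simpa using hA.conj_mem b hb g⁻¹) w hw, ?_⟩
    show ρ g (ρ (g⁻¹ * b * g) w) = ρ b (ρ g w)
    simp only [← LinearEquiv.mul_apply, ← map_mul]
    group
  -- the union of the translates is everything
  obtain ⟨w₀, hw₀, hw₀0⟩ := Submodule.exists_mem_ne_zero_of_ne_bot hW0
  have hcov : ∀ u : V, u ≠ 0 → ∃ g : G, u ∈ W.map (ρ g).toLinearMap := by
    intro u hu
    obtain ⟨g, hg⟩ := H.trans w₀ u hw₀0 hu
    exact ⟨g, w₀, hw₀, hg⟩
  apply ha1
  apply H.inj
  rw [map_one]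
  refine LinearEquiv.ext fun u => ?_
  show ρ a u = u
  rcases eq_or_ne u 0 with rfl | hu
  · simp
  obtain ⟨g, hg⟩ := hcov u hu
  by_cases hfix : W.map (ρ g).toLinearMap ≤ fixV ρ a
  · exact mem_fixV.1 (hfix hg)
  exfalso
  have hgW : W.map (ρ g).toLinearMap ⊓ fixV ρ a = ⊥ := by
    rcases htr g (W.map (ρ g).toLinearMap ⊓ fixV ρ a) inf_le_left (fun b hb x hx =>
      ⟨htA g b hb x hx.1, map_fixV_mem (hab a ha b hb) hx.2⟩) with h | h
    · exact h
    · exact absurd (h.ge.trans inf_le_right) hfix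
  have hu' : ρ a u ≠ u := fun h => hu (by
    have : u ∈ W.map (ρ g).toLinearMap ⊓ fixV ρ a := ⟨hg, h⟩
    rwa [hgW, Submodule.mem_bot] at this)
  have hsum : w₀ + u ≠ 0 := fun h => hu' (by
    have : u = -w₀ := eq_neg_of_add_eq_zero_right h
    rw [this, map_neg, mem_fixV.1 (hWle hw₀)])
  obtain ⟨k, hk⟩ := hcov _ hsum
  have hd : ρ a u - u ∈ W.map (ρ g).toLinearMap ⊓ W.map (ρ k).toLinearMap := by
    refine ⟨sub_mem (htA g a ha u hg) hg, ?_⟩
    have := sub_mem (htA k a ha _ hk) hk
    rwa [map_add, mem_fixV.1 (hWle hw₀), add_sub_add_left_eq_sub] at this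
  rcases htr g (W.map (ρ g).toLinearMap ⊓ W.map (ρ k).toLinearMap) inf_le_left
    (fun b hb x hx => ⟨htA g b hb x hx.1, htA k b hb x hx.2⟩) with h | h
  · rw [h, Submodule.mem_bot, sub_eq_zero] at hd
    exact hu' hd
  · have hle : W.map (ρ g).toLinearMap ≤ W.map (ρ k).toLinearMap := h.ge.trans inf_le_right
    have hw₀g : w₀ ∈ W.map (ρ k).toLinearMap := by
      have := sub_mem hk (hle hg)
      rwa [add_sub_cancel_right] at this
    rcases htr k (W.map (ρ g).toLinearMap) hle (htA g) with h' | h'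
    · rw [h', Submodule.mem_bot] at hg
      exact hu hg
    · rw [← h'] at hw₀g
      have : w₀ ∈ W.map (ρ g).toLinearMap ⊓ fixV ρ a := ⟨hw₀g, hWle hw₀⟩
      rw [hgW, Submodule.mem_bot] at this
      exact hw₀0 this

/-- In a nonzero space without invariant subspaces the commutant is a field: two elements
commuting with such an element commute. -/
theorem commute_of_irreducible [Finite V] [Nontrivial V] {ρ : G →* (V ≃ₗ[ZMod p] V)}
    (hρ : Function.Injective ρ) {y : G}
    (hirr : ∀ W : Submodule (ZMod p) V, (∀ w ∈ W, ρ y w ∈ W) → W = ⊥ ∨ W = ⊤) {a b : G}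
    (ha : a * y = y * a) (hb : b * y = y * b) : a * b = b * a := by
  classical
  let S : Subring (Module.End (ZMod p) V) := Subring.centralizer {(ρ y).toLinearMap}
  have hdom : ∀ s : S, s ≠ 0 → Function.Injective s.1 := by
    intro s hs
    rw [← LinearMap.ker_eq_bot]
    refine (hirr (LinearMap.ker s.1) fun w hw => ?_).resolve_right fun h => hs ?_
    · have h : (ρ y).toLinearMap * s.1 = s.1 * (ρ y).toLinearMap :=
        Subring.mem_centralizer_iff.1 s.2 _ rfl
      rw [LinearMap.mem_ker] at hw ⊢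
      have := LinearMap.congr_fun h w
      rw [Module.End.mul_apply, Module.End.mul_apply, hw, map_zero] at this
      exact this.symm
    · exact Subtype.ext (LinearMap.ker_eq_top.1 h)
  haveI : NoZeroDivisors S := ⟨fun {s t} hst => by
    by_cases hs : s = 0
    · exact Or.inl hs
    refine Or.inr (Subtype.ext (LinearMap.ext fun v => hdom s hs ?_))
    have := LinearMap.congr_fun (congrArg Subtype.val hst) v
    simpa using this⟩
  haveI : IsDomain S := NoZeroDivisors.to_isDomain S
  have hmem : ∀ c : G, c * y = y * c → (ρ c).toLinearMap ∈ S := by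
    intro c hc
    rw [Subring.mem_centralizer_iff]
    rintro _ rfl
    refine LinearMap.ext fun v => ?_
    show ρ y (ρ c v) = ρ c (ρ y v)
    rw [← LinearEquiv.mul_apply, ← map_mul, ← hc, map_mul]; rfl
  haveI : Finite (Module.End (ZMod p) V) := Finite.of_injective _ DFunLike.coe_injective
  haveI : Finite S := Subtype.finite
  letI : Field S := (Finite.isDomain_to_isField S).toField
  have h := mul_comm (⟨_, hmem a ha⟩ : S) ⟨_, hmem b hb⟩
  apply hρ
  rw [map_mul, map_mul]
  exact LinearEquiv.toLinearMap_injective (congrArg Subtype.val h)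

/-- A commutative group acting without invariant subspaces and faithfully is cyclic. -/
theorem isCyclic_of_commutant [Finite V] [Nontrivial V] [Finite G] {ρ : G →* (V ≃ₗ[ZMod p] V)}
    (hρ : Function.Injective ρ) {y : G}
    (hirr : ∀ W : Submodule (ZMod p) V, (∀ w ∈ W, ρ y w ∈ W) → W = ⊥ ∨ W = ⊤) :
    IsCyclic (Subgroup.centralizer ({y} : Set G)) := by
  classical
  let S : Subring (Module.End (ZMod p) V) := Subring.centralizer {(ρ y).toLinearMap}
  have hdom : ∀ s : S, s ≠ 0 → Function.Injective s.1 := by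
    intro s hs
    rw [← LinearMap.ker_eq_bot]
    refine (hirr (LinearMap.ker s.1) fun w hw => ?_).resolve_right fun h => hs ?_
    · have h : (ρ y).toLinearMap * s.1 = s.1 * (ρ y).toLinearMap :=
        Subring.mem_centralizer_iff.1 s.2 _ rfl
      rw [LinearMap.mem_ker] at hw ⊢
      have := LinearMap.congr_fun h w
      rw [Module.End.mul_apply, Module.End.mul_apply, hw, map_zero] at this
      exact this.symm
    · exact Subtype.ext (LinearMap.ker_eq_top.1 h)
  haveI : NoZeroDivisors S := ⟨fun {s t} hst => by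
    by_cases hs : s = 0
    · exact Or.inl hs
    refine Or.inr (Subtype.ext (LinearMap.ext fun v => hdom s hs ?_))
    have := LinearMap.congr_fun (congrArg Subtype.val hst) v
    simpa using this⟩
  haveI : IsDomain S := NoZeroDivisors.to_isDomain S
  haveI : Finite (Module.End (ZMod p) V) := Finite.of_injective _ DFunLike.coe_injective
  haveI : Finite S := Subtype.finite
  letI : Field S := (Finite.isDomain_to_isField S).toField
  let f : Subgroup.centralizer ({y} : Set G) →* S :=
    { toFun := fun c => ⟨(ρ c.1).toLinearMap, Subring.mem_centralizer_iff.2 (by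
        rintro _ rfl
        have hc : c.1 * y = y * c.1 := Subgroup.mem_centralizer_singleton_iff.1 c.2
        refine LinearMap.ext fun v => ?_
        show ρ y (ρ c.1 v) = ρ c.1 (ρ y v)
        rw [← LinearEquiv.mul_apply, ← map_mul, ← hc, map_mul]; rfl)⟩
      map_one' := Subtype.ext (LinearMap.ext fun v => by show ρ (1 : G) v = v; simp)
      map_mul' := fun c d => Subtype.ext (LinearMap.ext fun v => by
        show ρ (c.1 * d.1) v = ρ c.1 (ρ d.1 v)
        rw [map_mul, LinearEquiv.mul_apply]) }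
  refine isCyclic_of_subgroup_isDomain f fun c d hcd => ?_
  exact Subtype.ext (hρ (LinearEquiv.toLinearMap_injective (congrArg Subtype.val hcd)))

/-- An element of prime order `r` dividing no smaller `p ^ k - 1` has no invariant subspace. -/
theorem irreducible_of_primitive [Finite G] [Finite V] {ρ : G →* (V ≃ₗ[ZMod p] V)}
    (hρ : Function.Injective ρ) {r : ℕ} [Fact r.Prime] (hrp : r ≠ p)
    (hprim : ∀ k, 0 < k → k < finrank (ZMod p) V → ¬ r ∣ p ^ k - 1) {y : G} (hy : orderOf y = r) :
    Semireg ρ y ∧ ∀ W : Submodule (ZMod p) V, (∀ w ∈ W, ρ y w ∈ W) → W = ⊥ ∨ W = ⊤ := by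
  have hp : p.Prime := Fact.out
  have hr : r.Prime := Fact.out
  have key : ∀ a b : ℕ, b ≤ a → a ≤ finrank (ZMod p) V → p ^ a ≡ p ^ b [MOD r] →
      a = b ∨ (b = 0 ∧ a = finrank (ZMod p) V) := by
    intro a b hba han h
    by_contra hne
    push Not at hne
    have h2 : r ∣ p ^ b * (p ^ (a - b) - 1) := by
      rw [Nat.mul_sub, ← pow_add, Nat.add_sub_cancel' hba, mul_one]
      exact (Nat.modEq_iff_dvd' (Nat.pow_le_pow_right hp.pos hba)).1 h.symm
    rcases (hr.dvd_mul).1 h2 with h3 | h3
    · exact hrp ((Nat.prime_dvd_prime_iff_eq hr hp).1 (hr.dvd_of_dvd_pow h3))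
    · exact hprim (a - b) (by omega) (by
        rcases Nat.eq_zero_or_pos b with hb | hb
        · have := hne.2 hb
          omega
        · omega) h3
  have hsr : Semireg ρ y := by
    intro v hv
    have h := pow_modEq_fixV ρ hy
    rcases key _ _ (Submodule.finrank_le _) le_rfl h with h' | ⟨h', -⟩
    · exfalso
      have htop : fixV ρ y = ⊤ := Submodule.eq_top_of_finrank_eq h'.symm
      have : ρ y = 1 := LinearEquiv.ext fun w => mem_fixV.1 (htop ▸ Submodule.mem_top)
      rw [← map_one ρ] at this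
      rw [hρ this, orderOf_one] at hy
      exact hr.one_lt.ne hy
    · have : fixV ρ y = ⊥ := Submodule.finrank_eq_zero.1 h'
      simpa [this] using (mem_fixV.2 hv : v ∈ fixV ρ y)
  refine ⟨hsr, fun W hW => ?_⟩
  have h := card_modEq_fixV ρ hy W hW
  have hbot : W ⊓ fixV ρ y = ⊥ := (Submodule.eq_bot_iff _).2 fun w hw => hsr w hw.2
  rw [hbot, Module.natCard_eq_pow_finrank (K := ZMod p) (V := W), Nat.card_zmod,
    show Nat.card (⊥ : Submodule (ZMod p) V) = p ^ 0 by
      rw [pow_zero]; exact Nat.card_unique] at h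
  rcases key _ _ (Nat.zero_le _) (Submodule.finrank_le _) h with h' | ⟨-, h'⟩
  · exact Or.inl (Submodule.finrank_eq_zero.1 h')
  · exact Or.inr (Submodule.eq_top_of_finrank_eq h')

end Cfsg.Agent.H45.Trans
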