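import Mathlib
import Cfsg.Agent.H45.Transitive.Basic

/-!
Semiregular subgroups, the field of scalars of an irreducible linear group, and groups
centralising an element which is irreducible on two layers.
-/

set_option autoImplicit false

namespace Cfsg.Agent.H45.Trans

open Module

universe uV uG

variable {p : ℕ} [Fact p.Prime] {V : Type uV} [AddCommGroup V] [Module (ZMod p) V]
  {G : Type uG} [Group G]

/-- An element with a semiregular power is semiregular. -/
theorem semireg_of_pow {ρ : G →* (V ≃ₗ[ZMod p] V)} {x : G} {k : ℕ} (h : Semireg ρ (x ^ k)) :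
    Semireg ρ x :=
  fun v hv => h v ((stab ρ v).pow_mem hv k)

/-- A semiregular subgroup has order dividing the number of nonzero vectors. -/
theorem card_dvd_of_semireg [Finite G] [Finite V] (ρ : G →* (V ≃ₗ[ZMod p] V)) (R : Subgroup G)
    (h : ∀ x ∈ R, x ≠ 1 → Semireg ρ x) : Nat.card R ∣ Nat.card V - 1 := by
  classical
  let α := {v : V // v ≠ 0}
  let : MulAction R α :=
    { smul := fun g v => ⟨ρ g.1 v.1, fun h0 => v.2 ((ρ g.1).map_eq_zero_iff.1 h0)⟩
      one_smul := fun v => Subtype.ext (by show ρ 1 v.1 = v.1; simp)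
      mul_smul := fun a b v => Subtype.ext (by
        show ρ (a.1 * b.1) v.1 = ρ a.1 (ρ b.1 v.1)
        rw [map_mul, LinearEquiv.mul_apply]) }
  have hst : ∀ v : α, MulAction.stabilizer R v = ⊥ := by
    intro v
    refine (Subgroup.eq_bot_iff_forall _).2 fun g hg => ?_
    by_contra hg1
    exact v.2 (h g.1 g.2 (fun h1 => hg1 (Subtype.ext h1)) v.1 (congrArg Subtype.val hg))
  have hcard : Nat.card α = Nat.card V - 1 := by
    have := Fintype.ofFinite V
    rw [Nat.card_eq_fintype_card, Nat.card_eq_fintype_card, Fintype.card_subtype_compl,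
      Fintype.card_subtype_eq]
  have := Fintype.ofFinite (MulAction.orbitRel.Quotient R α)
  rw [← hcard, Nat.card_congr (MulAction.selfEquivSigmaOrbitsQuotientStabilizer R α), Nat.card_sigma]
  refine Finset.dvd_sum fun ω _ => ?_
  rw [← Subgroup.index_eq_card, hst, Subgroup.index_bot]

/-- A transitive group leaves no subspace invariant. -/
theorem Hyp.irreducible {ρ : G →* (V ≃ₗ[ZMod p] V)} (H : Hyp ρ) (W : Submodule (ZMod p) V)
    (hW : ∀ g, ∀ w ∈ W, ρ g w ∈ W) : W = ⊥ ∨ W = ⊤ := by
  refine or_iff_not_imp_left.2 fun hne => ?_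
  obtain ⟨w, hw, hw0⟩ := Submodule.exists_mem_ne_zero_of_ne_bot hne
  rw [Submodule.eq_top_iff']
  intro v
  rcases eq_or_ne v 0 with rfl | hv
  · exact zero_mem _
  obtain ⟨g, rfl⟩ := H.trans w v hw0 hv
  exact hW g w hw

/-- An irreducible group is linear over a field containing its centre. -/
theorem exists_field [Finite V] [Nontrivial V] [Finite G] (ρ : G →* (V ≃ₗ[ZMod p] V))
    (hρ : Function.Injective ρ)
    (hirr : ∀ W : Submodule (ZMod p) V, (∀ g, ∀ w ∈ W, ρ g w ∈ W) → W = ⊥ ∨ W = ⊤) :
    ∃ (F : Type uV) (_ : Field F) (_ : Finite F) (_ : CharP F p) (_ : Module F V)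
      (σ : G →* (V ≃ₗ[F] V)), Function.Injective σ ∧
        Nat.card (Subgroup.center G) ∣ Nat.card F - 1 := by
  classical
  let S : Subring (Module.End (ZMod p) V) :=
    Subring.centralizer (Set.range fun g => (ρ g).toLinearMap)
  have hcomm : ∀ (s : S) (g : G) (v : V), ρ g (s.1 v) = s.1 (ρ g v) := fun s g v =>
    LinearMap.congr_fun (Subring.mem_centralizer_iff.1 s.2 _ ⟨g, rfl⟩) v
  have hdom : ∀ s : S, s ≠ 0 → Function.Injective s.1 := by
    intro s hs
    rw [← LinearMap.ker_eq_bot]
    refine (hirr (LinearMap.ker s.1) fun g w hw => ?_).resolve_right fun h =>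
      hs (Subtype.ext (LinearMap.ker_eq_top.1 h))
    rw [LinearMap.mem_ker] at hw ⊢
    rw [← hcomm, hw, map_zero]
  haveI : NoZeroDivisors S := ⟨fun {s t} hst => by
    by_cases hs : s = 0
    · exact Or.inl hs
    refine Or.inr (Subtype.ext (LinearMap.ext fun v => hdom s hs ?_))
    have := LinearMap.congr_fun (congrArg Subtype.val hst) v
    simpa using this⟩
  haveI : IsDomain S := NoZeroDivisors.to_isDomain S
  haveI : Finite (Module.End (ZMod p) V) := Finite.of_injective _ DFunLike.coe_injective
  haveI : Finite S := Subtype.finite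
  have hchar : CharP S p := by
    refine (CharP.charP_iff_prime_eq_zero Fact.out).2 (Subtype.ext ?_)
    push_cast
    rw [← map_natCast (algebraMap (ZMod p) (Module.End (ZMod p) V)), ZMod.natCast_self, map_zero]
  letI : Field S := (Finite.isDomain_to_isField S).toField
  letI : Module S V := Module.compHom V S.subtype
  let σ : G →* (V ≃ₗ[S] V) :=
    { toFun := fun g => { (ρ g).toAddEquiv with map_smul' := fun s v => hcomm s g v }
      map_one' := by
        apply LinearEquiv.ext
        intro v
        show ρ 1 v = v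
        simp
      map_mul' := fun a b => by
        apply LinearEquiv.ext
        intro v
        show ρ (a * b) v = ρ a (ρ b v)
        rw [map_mul, LinearEquiv.mul_apply] }
  refine ⟨S, inferInstance, inferInstance, hchar, inferInstance, σ, fun a b hab => hρ ?_, ?_⟩
  · exact LinearEquiv.ext fun v => LinearEquiv.congr_fun hab v
  let f : Subgroup.center G →* S :=
    { toFun := fun z => ⟨(ρ z.1).toLinearMap, Subring.mem_centralizer_iff.2 (by
        rintro _ ⟨g, rfl⟩
        refine LinearMap.ext fun v => ?_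
        show ρ g (ρ z.1 v) = ρ z.1 (ρ g v)
        rw [← LinearEquiv.mul_apply, ← map_mul, Subgroup.mem_center_iff.1 z.2 g, map_mul,
          LinearEquiv.mul_apply])⟩
      map_one' := Subtype.ext (LinearMap.ext fun v => by show ρ (1 : G) v = v; simp)
      map_mul' := fun c d => Subtype.ext (LinearMap.ext fun v => by
        show ρ (c.1 * d.1) v = ρ c.1 (ρ d.1 v)
        rw [map_mul, LinearEquiv.mul_apply]) }
  rw [← Nat.card_units]
  refine Subgroup.card_dvd_of_injective f.toHomUnits fun c d hcd => ?_
  have h1 : f c = f d := congrArg Units.val hcd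
  exact Subtype.ext (hρ (LinearEquiv.toLinearMap_injective (congrArg Subtype.val h1)))

/-- The matrices of the linear automorphisms. -/
noncomputable def toGL {F : Type*} [Field F] {U : Type*} [AddCommGroup U] [Module F U] {d : ℕ}
    (b : Basis (Fin d) F U) : (U ≃ₗ[F] U) →* GL (Fin d) F :=
  (Units.map (LinearMap.toMatrixAlgEquiv b).toMonoidHom).comp
    (LinearMap.GeneralLinearGroup.generalLinearEquiv F U).symm.toMonoidHom

theorem toGL_injective {F : Type*} [Field F] {U : Type*} [AddCommGroup U] [Module F U] {d : ℕ}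
    (b : Basis (Fin d) F U) : Function.Injective (toGL b) :=
  (Units.map_injective (LinearMap.toMatrixAlgEquiv b).injective).comp
    (LinearMap.GeneralLinearGroup.generalLinearEquiv F U).symm.injective

/-- Linear automorphisms from an action by linear maps. -/
noncomputable def toEquivs {K : Type*} [Semiring K] {U : Type*} [AddCommMonoid U] [Module K U]
    (ψ : G →* Module.End K U) : G →* (U ≃ₗ[K] U) :=
  (LinearMap.GeneralLinearGroup.generalLinearEquiv K U).toMonoidHom.comp ψ.toHomUnits

theorem toEquivs_apply {K : Type*} [Semiring K] {U : Type*} [AddCommMonoid U] [Module K U]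
    (ψ : G →* Module.End K U) (g : G) (u : U) : toEquivs ψ g u = ψ g u := rfl

/-- A coprime group centralising an element irreducible on a subspace and on its quotient, both
invariant, is commutative. -/
theorem comm_of_two_layers [Finite G] [Finite V] (ρ : G →* (V ≃ₗ[ZMod p] V))
    (hρ : Function.Injective ρ) (hcop : ¬ p ∣ Nat.card G) {x : G} (hx : x ∈ Subgroup.center G)
    (W : Submodule (ZMod p) V) (hW : ∀ g, ∀ w ∈ W, ρ g w ∈ W) (h0 : W ≠ ⊥) (h1 : W ≠ ⊤)
    (hW1 : ∀ U : Submodule (ZMod p) V, U ≤ W → (∀ u ∈ U, ρ x u ∈ U) → U = ⊥ ∨ U = W)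
    (hW2 : ∀ U : Submodule (ZMod p) V, W ≤ U → (∀ u ∈ U, ρ x u ∈ U) → U = W ∨ U = ⊤) :
    ∀ a b : G, a * b = b * a := by
  classical
  let ψ₁ : G →* Module.End (ZMod p) W :=
    { toFun := fun g => (ρ g).toLinearMap.restrict (hW g)
      map_one' := LinearMap.ext fun w => Subtype.ext (by show ρ 1 w.1 = w.1; simp)
      map_mul' := fun a b => LinearMap.ext fun w => Subtype.ext (by
        show ρ (a * b) w.1 = ρ a (ρ b w.1)
        rw [map_mul, LinearEquiv.mul_apply]) }
  let ψ₂ : G →* Module.End (ZMod p) (V ⧸ W) :=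
    { toFun := fun g => Submodule.mapQ W W (ρ g).toLinearMap (fun w hw => hW g w hw)
      map_one' := Submodule.linearMap_qext _ (LinearMap.ext fun v => by
        show Submodule.Quotient.mk (ρ 1 v) = Submodule.Quotient.mk v
        simp)
      map_mul' := fun a b => Submodule.linearMap_qext _ (LinearMap.ext fun v => by
        show Submodule.Quotient.mk (ρ (a * b) v) = Submodule.Quotient.mk (ρ a (ρ b v))
        rw [map_mul, LinearEquiv.mul_apply]) }
  haveI : Nontrivial W := Submodule.nontrivial_iff_ne_bot.2 h0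
  haveI : Nontrivial (V ⧸ W) := Submodule.Quotient.nontrivial_iff.2 h1
  haveI : Finite (V ⧸ W) := Finite.of_surjective _ W.mkQ_surjective
  have hc : ∀ (g : G), g * x = x * g := fun g => Subgroup.mem_center_iff.1 hx g
  have hi1 : ∀ U : Submodule (ZMod p) W, (∀ u ∈ U, toEquivs ψ₁ x u ∈ U) → U = ⊥ ∨ U = ⊤ := by
    intro U hU
    rcases hW1 (U.map W.subtype) (fun v hv => by
        obtain ⟨u, -, rfl⟩ := hv; exact u.2) (fun v hv => by
        obtain ⟨u, hu, rfl⟩ := hv; exact ⟨_, hU u hu, rfl⟩) with h | h
    · exact Or.inl (Submodule.map_injective_of_injective W.injective_subtype (h.trans (Submodule.map_bot _).symm))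
    · exact Or.inr (Submodule.map_injective_of_injective W.injective_subtype (h.trans (Submodule.map_subtype_top W).symm))
  have hi2 : ∀ U : Submodule (ZMod p) (V ⧸ W), (∀ u ∈ U, toEquivs ψ₂ x u ∈ U) → U = ⊥ ∨ U = ⊤ := by
    intro U hU
    have e := Submodule.map_comap_eq_of_surjective W.mkQ_surjective U
    rcases hW2 (U.comap W.mkQ) (fun w hw => by
        rw [Submodule.mem_comap, Submodule.mkQ_apply, (Submodule.Quotient.mk_eq_zero W).2 hw]
        exact zero_mem _) (fun v hv => hU _ hv) with h | h
    · exact Or.inl (by rw [← e, h, Submodule.mkQ_map_self])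
    · exact Or.inr (by rw [← e, h, Submodule.map_top, Submodule.range_mkQ])
  have key1 : ∀ a b, toEquivs ψ₁ (a * b) = toEquivs ψ₁ (b * a) := by
    intro a b
    simp only [map_mul]
    refine commute_of_irreducible (ρ := MonoidHom.id _) (y := toEquivs ψ₁ x)
      Function.injective_id hi1 ?_ ?_
    all_goals simp only [← map_mul, hc]
  have key2 : ∀ a b, toEquivs ψ₂ (a * b) = toEquivs ψ₂ (b * a) := by
    intro a b
    simp only [map_mul]
    refine commute_of_irreducible (ρ := MonoidHom.id _) (y := toEquivs ψ₂ x)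
      Function.injective_id hi2 ?_ ?_
    all_goals simp only [← map_mul, hc]
  intro a b
  set c := (b * a)⁻¹ * (a * b) with hcdef
  have e1 : ∀ w ∈ W, ρ c w = w := by
    intro w hw
    have h : toEquivs ψ₁ c = 1 := by rw [hcdef, map_mul, map_inv, key1, inv_mul_cancel]
    exact congrArg Subtype.val (LinearEquiv.congr_fun h ⟨w, hw⟩)
  have e2 : ∀ v, ρ c v - v ∈ W := by
    intro v
    have h : toEquivs ψ₂ c = 1 := by rw [hcdef, map_mul, map_inv, key2, inv_mul_cancel]
    exact (Submodule.Quotient.eq W).1 (LinearEquiv.congr_fun h (Submodule.Quotient.mk v))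
  have hpow : ∀ (k : ℕ) v, ρ (c ^ k) v = v + (k : ZMod p) • (ρ c v - v) := by
    intro k
    induction k with
    | zero => simp
    | succ k ih =>
      intro v
      rw [pow_succ', map_mul, LinearEquiv.mul_apply, ih, map_add, map_smul, e1 _ (e2 v),
        Nat.cast_succ, add_smul, one_smul]
      abel
  have hp1 : c ^ p = 1 := by
    apply hρ
    rw [map_one]
    refine LinearEquiv.ext fun v => ?_
    rw [hpow, ZMod.natCast_self, zero_smul, add_zero]
    rfl
  have hc1 : c = 1 := by
    rcases (Nat.dvd_prime Fact.out).1 (orderOf_dvd_of_pow_eq_one hp1) with h | h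
    · exact orderOf_eq_one_iff.1 h
    · exact absurd (h ▸ orderOf_dvd_natCard c) hcop
  exact (inv_mul_eq_one.1 hc1).symm

end Cfsg.Agent.H45.Trans
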