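import Mathlib
import Cfsg.Agent.H45.Transitive.Classes
import Cfsg.Agent.H45.Transitive.Large
import Cfsg.Agent.H45.Transitive.Semilinear
import Cfsg.Agent.H45.Transitive.Icosa
import Cfsg.Agent.H45.Transitive.PlaneSolvable
import Cfsg.Agent.H45.Transitive.EightyOne
import Cfsg.Agent.S2904

/-!
Class numbers of groups of order prime to `p` which are transitive on nonzero vectors.
-/

set_option autoImplicit false

namespace Cfsg.Agent.H45.Trans

open Module

variable {p : ℕ} [Fact p.Prime] {V : Type*} [AddCommGroup V] [Module (ZMod p) V] [Finite V]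
  {G : Type*} [Group G] [Finite G] {ρ : G →* (V ≃ₗ[ZMod p] V)}

theorem three_le_classes (h : 3 ≤ Nat.card G) : 3 ≤ Nat.card (ConjClasses G) := by
  have hh := le_card_classes (⊥ : Subgroup G) bot_le 2 fun g hg => by
    rw [Subgroup.mem_bot] at hg
    have h1 : orderOf g ≠ 1 := fun h1 => hg (orderOf_eq_one_iff.1 h1)
    have h0 := orderOf_pos g
    calc 2 ≤ orderOf g := by omega
      _ = Nat.card (Subgroup.zpowers g) := (Nat.card_zpowers g).symm
      _ ≤ _ := Subgroup.card_le_of_le (Subgroup.zpowers_le.2 (Subgroup.mem_centralizer_singleton_iff.2 rfl))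
  rw [Subgroup.card_bot, one_mul] at hh
  by_contra hk
  have := Nat.mul_le_mul_right (Nat.card G) (show Nat.card (ConjClasses G) ≤ 2 by omega)
  omega

/-- The line case. -/
theorem of_finrank_one [Nontrivial V] (H : Hyp ρ) (hn : finrank (ZMod p) V = 1) {v : V} (hv : v ≠ 0) :
    (∀ a b : G, a * b = b * a) ∧ Nat.card (stab ρ v) = 1 := by
  have hspan := (finrank_eq_one_iff_of_nonzero' v hv).1 hn
  refine ⟨fun a b => H.inj (LinearEquiv.ext fun u => ?_), Subgroup.card_eq_one.2
    ((Subgroup.eq_bot_iff_forall _).2 fun g hg => H.inj (LinearEquiv.ext fun u => ?_))⟩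
  · obtain ⟨l, rfl⟩ := hspan u
    obtain ⟨α, hα⟩ := hspan (ρ a v)
    obtain ⟨β, hβ⟩ := hspan (ρ b v)
    simp only [map_mul, LinearEquiv.mul_apply, map_smul, ← hα, ← hβ, smul_smul]
    rw [mul_comm α β]
  · obtain ⟨l, rfl⟩ := hspan u
    rw [map_smul, mem_stab.1 hg, map_one]
    rfl

/-- The structure theorem in the form used for counting. -/
theorem trichotomy [Nontrivial V] (H : Hyp ρ) :
    Cfsg.Agent.H78.SemilinearRep ρ ∨
      (∃ A E : Subgroup G, Cfsg.Agent.H78.ExceptionalData p V A E) ∨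
      (finrank (ZMod p) V = 2 ∧ ¬ Group.IsSolvable G) := by
  by_cases hsol : Group.IsSolvable G
  · rcases Cfsg.Agent.H78.solvable_transitive_cases
      (fun a n h1 h2 h3 h4 => Cfsg.Agent.S2904.result a n h1 h2 h3 h4) hsol ρ H.inj H.trans with h | h
    · exact Or.inl h
    · exact Or.inr (Or.inl h)
  refine Or.inr (Or.inr ⟨?_, hsol⟩)
  have h1 : 0 < finrank (ZMod p) V := Module.finrank_pos
  have h3 : finrank (ZMod p) V < 3 := by
    by_contra h
    exact hsol (solvable_of_three_le H (not_lt.1 h))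
  have h2 : finrank (ZMod p) V ≠ 1 := fun h => hsol (by
    obtain ⟨v, hv⟩ := exists_ne (0 : V)
    exact Group.isSolvable_of_comm (of_finrank_one H h hv).1)
  omega

/-- The upper bound. -/
theorem class_upper [Nontrivial V] (H : Hyp ρ) {v : V} (hv : v ≠ 0) :
    (Nat.card (ConjClasses G) + Nat.card (stab ρ v) ≤ Nat.card V ∧
      (Nat.card (ConjClasses G) + Nat.card (stab ρ v) = Nat.card V → IsCyclic G ∨
        (Nat.card V = 8 ∧ Nat.card G = 21) ∨ (Nat.card V = 9 ∧ Nat.card G = 16))) ∨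
      (Nat.card V = 9 ∧ Nat.card G = 16) := by
  rcases trichotomy H with h | ⟨A, E, D⟩ | ⟨hn, hns⟩
  · exact Or.inl (semilinear_bound H h hv).1
  · rcases D.cases with ⟨hn, -⟩ | ⟨hn, hp3⟩
    · rcases (plane_exceptional H hn D hv).1 with ⟨h3, h16⟩ | h
      · exact Or.inr ⟨by rw [card_V (p := p) (V := V), hn, h3]; norm_num, h16⟩
      · exact Or.inl ⟨h.le, fun he => absurd he h.ne⟩
    · have h := eightyone H hp3 hn D hv
      exact Or.inl ⟨h.le, fun he => absurd he h.ne⟩
  · obtain ⟨z, hz2, hzp, hG, hp11, -, hk, -, -⟩ := icosa H hn hns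
    have hGe := H.card_eq hv
    have hV : Nat.card V = p ^ 2 := hn ▸ card_V (p := p) (V := V)
    rw [hV] at hGe ⊢
    set e := Nat.card (stab ρ v)
    have hzle : z ≤ p - 1 := Nat.le_of_dvd (by omega) hzp
    have h : Nat.card (ConjClasses G) + e < p ^ 2 := by
      obtain ⟨q, rfl⟩ : ∃ q, p = q + 1 := ⟨p - 1, by omega⟩
      rw [show (q + 1) ^ 2 - 1 = q * (q + 2) by
        rw [show (q + 1) ^ 2 = q * (q + 2) + 1 by ring, Nat.add_sub_cancel]] at hGe
      have he : e * (q + 2) ≤ 60 := by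
        refine Nat.le_of_mul_le_mul_left ?_ (show 0 < q by omega)
        calc q * (e * (q + 2)) = e * (q * (q + 2)) := by ring
          _ = 60 * z := by rw [← hGe, hG]
          _ ≤ q * 60 := by rw [mul_comm q]; exact Nat.mul_le_mul_left 60 (by omega)
      have he60 : e ≤ 5 := by
        by_contra h
        have := Nat.mul_le_mul (show 6 ≤ e by omega) (show 12 ≤ q + 2 by omega)
        omega
      nlinarith
    exact Or.inl ⟨h.le, fun he => absurd he h.ne⟩

theorem sq_lt_five_pow' : ∀ n : ℕ, 2 ≤ n → n ^ 2 + 1 ≤ 5 ^ (n - 1) := by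
  intro n hn
  induction n, hn using Nat.le_induction with
  | base => norm_num
  | succ k hk ih =>
    rw [show k + 1 - 1 = (k - 1) + 1 by omega, pow_succ 5]
    nlinarith

/-- The lower bound. -/
theorem class_lower [Nontrivial V] (H : Hyp ρ) (hn : 2 ≤ finrank (ZMod p) V) :
    p ≤ Nat.card (ConjClasses G) ∨ (p = 11 ∧ finrank (ZMod p) V = 2 ∧
      Nat.card (ConjClasses G) = 9 ∧ Nonempty (G ≃* Matrix.SpecialLinearGroup (Fin 2) (ZMod 5))) := by
  have hp : p.Prime := Fact.out
  have hG : 3 ≤ Nat.card G := by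
    have h := Nat.le_of_dvd Nat.card_pos H.dvd_card
    have h4 : 2 ^ 2 ≤ p ^ finrank (ZMod p) V :=
      (Nat.pow_le_pow_left hp.two_le 2).trans (Nat.pow_le_pow_right hp.pos hn)
    omega
  by_cases hp3 : p ≤ 3
  · exact Or.inl (hp3.trans (three_le_classes hG))
  obtain ⟨v, hv⟩ := exists_ne (0 : V)
  rcases trichotomy H with h | ⟨A, E, D⟩ | ⟨hn2, hns⟩
  · obtain ⟨-, d, hd, hk⟩ := semilinear_bound H h hv
    left
    rw [card_V (p := p) (V := V)] at hk
    set n := finrank (ZMod p) V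
    by_contra hlt
    have hp5 : 5 ≤ p := by
      by_contra h5
      have : p = 4 := by omega
      rw [this] at hp
      norm_num at hp
    have h1 : p * (n ^ 2 + 1) ≤ p ^ n := by
      calc p * (n ^ 2 + 1) ≤ p * 5 ^ (n - 1) := Nat.mul_le_mul_left p (sq_lt_five_pow' n hn)
        _ ≤ p * p ^ (n - 1) := Nat.mul_le_mul_left p (Nat.pow_le_pow_left hp5 _)
        _ = p ^ n := by rw [← pow_succ', show n - 1 + 1 = n by omega]
    have h2 : Nat.card (ConjClasses G) * (d * d) ≤ (p - 1) * (n * n) :=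
      Nat.mul_le_mul (by omega) (Nat.mul_le_mul hd hd)
    obtain ⟨q, rfl⟩ : ∃ q, p = q + 1 := ⟨p - 1, by omega⟩
    rw [Nat.add_sub_cancel] at h2
    have h3 : (q + 1) * (n ^ 2 + 1) ≤ q * (n * n) + 1 := by omega
    nlinarith
  · rcases D.cases with ⟨hn2, -⟩ | ⟨-, h3⟩
    · exact Or.inl (plane_exceptional H hn2 D hv).2
    · omega
  · obtain ⟨z, hz2, hzp, hGc, hp11, hdvd, -, hk, hz⟩ := icosa H hn2 hns
    by_cases hz22 : z = 2
    · obtain ⟨h9, hiso⟩ := hz hz22
      refine Or.inr ⟨?_, hn2, h9, hiso⟩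
      have h := Nat.le_of_dvd (by omega) hdvd
      by_contra hne
      have : 12 ^ 2 ≤ p ^ 2 := Nat.pow_le_pow_left (by omega) 2
      omega
    left
    have hz0 : 0 < z := by
      by_contra h
      have : Nat.card G = 0 := by rw [hGc, Nat.eq_zero_of_not_pos h, mul_zero]
      exact Nat.card_pos.ne' this
    by_cases hp13 : p ≤ 13
    · omega
    · have h := Nat.le_of_dvd (by omega) hdvd
      have : 14 * p ≤ p ^ 2 := by rw [sq]; exact Nat.mul_le_mul_right p (by omega)
      omega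

end Cfsg.Agent.H45.Trans
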